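import Mathlib
import Cfsg.Agent.H9.AutPSL2Maps

/-!
# The odd-product graph on the involutions of `PSL(2, q)`: matrices and odd orders

(author: helper5)  Entry-level lemmas on `SL(2, F)`, and three criteria for the image in
`PSL(2, F)` of a matrix to have odd order, in terms of its trace.
-/

set_option autoImplicit false
set_option linter.unusedSectionVars false
set_option linter.unusedVariables false

namespace Cfsg.Agent.Lib.Helper5.OddGraph

open Cfsg.Agent.H9.AutPSL2 (pr pr_eq_iff pr_surjective mem_center_iff')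

section group

variable {G : Type*} [Group G]

/-- two involutions whose product has odd order are conjugate -/
theorem isConj_of_odd (x z : G) (hx : x * x = 1) (hz : z * z = 1)
    (h : Odd (orderOf (x * z))) : IsConj x z := by
  obtain ⟨s, hs⟩ := h
  set r := x * z with hr
  have hxi : x⁻¹ = x := inv_eq_of_mul_eq_one_right hx
  have hzi : z⁻¹ = z := inv_eq_of_mul_eq_one_right hz
  have hri : r⁻¹ = z * x := by rw [hr, mul_inv_rev, hxi, hzi]
  have h1 : x * r * x⁻¹ = r⁻¹ := by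
    rw [hri, hxi, hr]
    calc x * (x * z) * x = (x * x) * z * x := by group
      _ = z * x := by rw [hx, one_mul]
  have h2 : x * r ^ s * x⁻¹ = (r⁻¹) ^ s := by rw [← h1, conj_pow]
  have hrs : r ^ (2 * s + 1) = 1 := by rw [← hs]; exact pow_orderOf_eq_one r
  rw [isConj_iff]
  refine ⟨r ^ s, ?_⟩
  have h3 : x * (r ^ s)⁻¹ * x⁻¹ = r ^ s := by
    have : x * (r ^ s)⁻¹ * x⁻¹ = (x * r ^ s * x⁻¹)⁻¹ := by group
    rw [this, h2, inv_pow, inv_inv]
  have h4 : x * (r ^ s)⁻¹ = r ^ s * x := by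
    calc x * (r ^ s)⁻¹ = (x * (r ^ s)⁻¹ * x⁻¹) * x := by group
      _ = r ^ s * x := by rw [h3]
  calc r ^ s * x * (r ^ s)⁻¹ = r ^ s * (x * (r ^ s)⁻¹) := by group
    _ = r ^ s * (r ^ s * x) := by rw [h4]
    _ = r ^ (2 * s) * x := by rw [← mul_assoc, ← pow_add, two_mul]
    _ = r⁻¹ * x := by
      congr 1
      have : r ^ (2 * s) * r = 1 := by rw [← pow_succ]; exact hrs
      exact eq_inv_of_mul_eq_one_left this
    _ = z := by rw [hri, mul_assoc, hx, mul_one]

theorem orderOf_mul_comm (x y : G) : orderOf (x * y) = orderOf (y * x) := by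
  have h : SemiconjBy y (x * y) (y * x) := by
    unfold SemiconjBy
    rw [mul_assoc]
  exact h.orderOf_eq y

end group

section sl2

variable {F : Type*} [Field F]

local notation "SL2" => Matrix.SpecialLinearGroup (Fin 2) F
local notation "PSL2" => Matrix.ProjectiveSpecialLinearGroup (Fin 2) F

theorem mul_entries (X Y : SL2) :
    (X * Y).1 0 0 = X.1 0 0 * Y.1 0 0 + X.1 0 1 * Y.1 1 0 ∧
    (X * Y).1 0 1 = X.1 0 0 * Y.1 0 1 + X.1 0 1 * Y.1 1 1 ∧
    (X * Y).1 1 0 = X.1 1 0 * Y.1 0 0 + X.1 1 1 * Y.1 1 0 ∧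
    (X * Y).1 1 1 = X.1 1 0 * Y.1 0 1 + X.1 1 1 * Y.1 1 1 := by
  simp [Matrix.mul_apply, Fin.sum_univ_two]

theorem det_entries (X : SL2) : X.1 0 0 * X.1 1 1 - X.1 0 1 * X.1 1 0 = 1 := by
  have := X.2
  rwa [Matrix.det_fin_two] at this

theorem ext_entries (X Y : SL2) (h00 : X.1 0 0 = Y.1 0 0) (h01 : X.1 0 1 = Y.1 0 1)
    (h10 : X.1 1 0 = Y.1 1 0) (h11 : X.1 1 1 = Y.1 1 1) : X = Y := by
  apply Subtype.ext
  ext i j
  fin_cases i <;> fin_cases j <;> assumption

/-- the matrix with the given entries -/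
def mk2 (a b c d : F) (h : a * d - b * c = 1) : SL2 :=
  ⟨!![a, b; c, d], by rw [Matrix.det_fin_two_of]; exact h⟩

@[simp] theorem mk2_00 (a b c d : F) (h : a * d - b * c = 1) : (mk2 a b c d h).1 0 0 = a := rfl
@[simp] theorem mk2_01 (a b c d : F) (h : a * d - b * c = 1) : (mk2 a b c d h).1 0 1 = b := rfl
@[simp] theorem mk2_10 (a b c d : F) (h : a * d - b * c = 1) : (mk2 a b c d h).1 1 0 = c := rfl
@[simp] theorem mk2_11 (a b c d : F) (h : a * d - b * c = 1) : (mk2 a b c d h).1 1 1 = d := rfl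

theorem one_entries : (1 : SL2).1 0 0 = 1 ∧ (1 : SL2).1 0 1 = 0 ∧ (1 : SL2).1 1 0 = 0 ∧
    (1 : SL2).1 1 1 = 1 := by
  simp

theorem neg_one_entries : (-1 : SL2).1 0 0 = -1 ∧ (-1 : SL2).1 0 1 = 0 ∧ (-1 : SL2).1 1 0 = 0 ∧
    (-1 : SL2).1 1 1 = -1 := by
  simp

theorem pr_eq_one_iff' (X : SL2) : pr X = 1 ↔ X = 1 ∨ X = -1 := by
  rw [← map_one pr, pr_eq_iff]

/-- a diagonal matrix with equal diagonal entries is `±1` -/
theorem pr_eq_one_of_scalar (M : SL2) (h01 : M.1 0 1 = 0) (h10 : M.1 1 0 = 0)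
    (hd : M.1 0 0 = M.1 1 1) : pr M = 1 := by
  have hdet := det_entries M
  rw [h01, ← hd] at hdet
  have h1 : (M.1 0 0 - 1) * (M.1 0 0 + 1) = 0 := by linear_combination hdet
  rw [pr_eq_one_iff']
  obtain ⟨o00, o01, o10, o11⟩ := one_entries (F := F)
  obtain ⟨n00, n01, n10, n11⟩ := neg_one_entries (F := F)
  rcases mul_eq_zero.1 h1 with h | h
  · left
    have h00 : M.1 0 0 = 1 := by linear_combination h
    apply ext_entries
    · rw [h00, o00]
    · rw [h01, o01]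
    · rw [h10, o10]
    · rw [← hd, h00, o11]
  · right
    have h00 : M.1 0 0 = -1 := by linear_combination h
    apply ext_entries
    · rw [h00, n00]
    · rw [h01, n01]
    · rw [h10, n10]
    · rw [← hd, h00, n11]

/-- if the square of `P` is scalar and `P` is not, then `P` has trace zero -/
theorem trace_zero_of_sq (P : SL2) (hc : pr (P * P) = 1) (hP : pr P ≠ 1) :
    P.1 0 0 + P.1 1 1 = 0 := by
  obtain ⟨e00, e01, e10, e11⟩ := mul_entries P P
  obtain ⟨o00, o01, o10, o11⟩ := one_entries (F := F)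
  obtain ⟨n00, n01, n10, n11⟩ := neg_one_entries (F := F)
  have hfacts : (P * P).1 0 1 = 0 ∧ (P * P).1 1 0 = 0 ∧ (P * P).1 0 0 = (P * P).1 1 1 := by
    rw [pr_eq_one_iff'] at hc
    rcases hc with h | h
    · rw [h]; exact ⟨o01, o10, o00.trans o11.symm⟩
    · rw [h]; exact ⟨n01, n10, n00.trans n11.symm⟩
  obtain ⟨f01, f10, fd⟩ := hfacts
  rw [e01] at f01
  rw [e10] at f10
  rw [e00, e11] at fd
  by_contra htr
  apply hP
  have h01 : P.1 0 1 = 0 := by
    have : P.1 0 1 * (P.1 0 0 + P.1 1 1) = 0 := by linear_combination f01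
    exact (mul_eq_zero.1 this).resolve_right htr
  have h10 : P.1 1 0 = 0 := by
    have : P.1 1 0 * (P.1 0 0 + P.1 1 1) = 0 := by linear_combination f10
    exact (mul_eq_zero.1 this).resolve_right htr
  have hd : P.1 0 0 = P.1 1 1 := by
    have : (P.1 0 0 - P.1 1 1) * (P.1 0 0 + P.1 1 1) = 0 := by
      rw [h01, h10] at fd
      linear_combination fd
    have := (mul_eq_zero.1 this).resolve_right htr
    linear_combination this
  exact pr_eq_one_of_scalar P h01 h10 hd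

/-- a matrix of trace zero squares to `-1` -/
theorem sq_of_trace_zero (P : SL2) (ht : P.1 0 0 + P.1 1 1 = 0) : P * P = -1 := by
  obtain ⟨e00, e01, e10, e11⟩ := mul_entries P P
  obtain ⟨n00, n01, n10, n11⟩ := neg_one_entries (F := F)
  have hdet := det_entries P
  have h11 : P.1 1 1 = -P.1 0 0 := by linear_combination ht
  apply ext_entries
  · rw [e00, n00]; rw [h11] at hdet; linear_combination -hdet
  · rw [e01, n01, h11]; ring
  · rw [e10, n10, h11]; ring
  · rw [e11, n11]; rw [h11] at hdet ⊢; linear_combination -hdet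

theorem pr_neg_one : pr (-1 : SL2) = 1 := by
  rw [pr_eq_one_iff']; right; rfl

theorem pr_sq_of_trace_zero (P : SL2) (ht : P.1 0 0 + P.1 1 1 = 0) : pr P * pr P = 1 := by
  rw [← map_mul, sq_of_trace_zero P ht, pr_neg_one]

theorem poly_identities (m₁ m₂ m₃ m₄ p₁ p₂ p₃ : F) (hM : m₁ * m₄ - m₂ * m₃ = 1)
    (hP : -p₁ ^ 2 - p₂ * p₃ = 1)
    (h11 : p₁ * m₁ + p₂ * m₃ = m₁ * p₁ + m₂ * p₃)
    (h12 : p₁ * m₂ + p₂ * m₄ = m₁ * p₂ + m₂ * (-p₁))
    (h21 : p₃ * m₁ + (-p₁) * m₃ = m₃ * p₁ + m₄ * p₃) :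
    ((m₁ + m₄) ^ 2 - 4) * p₁ ^ 2 = -(m₁ - m₄) ^ 2 ∧
    ((m₁ + m₄) ^ 2 - 4) * p₂ ^ 2 = -(2 * m₂) ^ 2 ∧
    ((m₁ + m₄) ^ 2 - 4) * p₃ ^ 2 = -(2 * m₃) ^ 2 := by
  refine ⟨?_, ?_, ?_⟩
  · linear_combination 4 * p₁ ^ 2 * hM + 2 * p₁ * m₃ * h12 - p₂ * (m₁ - m₄) * h21 -
      (m₁ - m₄) ^ 2 * hP
  · linear_combination 4 * p₂ ^ 2 * hM - (2 * p₁ * m₂ + p₂ * (m₁ - m₄)) * h12 +
      4 * m₂ * p₂ * h11 - 4 * m₂ ^ 2 * hP
  · linear_combination 4 * p₃ ^ 2 * hM + (2 * p₁ * m₃ + p₃ * (m₁ - m₄)) * h21 -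
      4 * m₃ * p₃ * h11 - 4 * m₃ ^ 2 * hP

/-- the identities satisfied by a matrix of trace zero commuting with `M` -/
theorem comm_identities (M P : SL2) (hc : P * M = M * P) (ht : P.1 0 0 + P.1 1 1 = 0) :
    ((M.1 0 0 + M.1 1 1) ^ 2 - 4) * (P.1 0 0) ^ 2 = -(M.1 0 0 - M.1 1 1) ^ 2 ∧
    ((M.1 0 0 + M.1 1 1) ^ 2 - 4) * (P.1 0 1) ^ 2 = -(2 * M.1 0 1) ^ 2 ∧
    ((M.1 0 0 + M.1 1 1) ^ 2 - 4) * (P.1 1 0) ^ 2 = -(2 * M.1 1 0) ^ 2 := by
  obtain ⟨a00, a01, a10, a11⟩ := mul_entries P M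
  obtain ⟨b00, b01, b10, b11⟩ := mul_entries M P
  have h11 : P.1 1 1 = -P.1 0 0 := by linear_combination ht
  have hP := det_entries P
  rw [h11] at hP a10 b01
  apply poly_identities _ _ _ _ _ _ _ (det_entries M) (by linear_combination hP)
  · rw [← a00, ← b00, hc]
  · rw [← a01, ← b01, hc]
  · rw [← a10, ← b10, hc]

end sl2

section finite

variable {F : Type*} [Field F] [Fintype F]

local notation "SL2" => Matrix.SpecialLinearGroup (Fin 2) F
local notation "PSL2" => Matrix.ProjectiveSpecialLinearGroup (Fin 2) F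

theorem finite_sl2 : Finite SL2 :=
  Finite.of_injective (fun A : SL2 => A.1) Subtype.val_injective

theorem finite_psl2 : Finite PSL2 := by
  haveI := finite_sl2 (F := F)
  exact Quotient.finite _

/-- if the image of `M` has even order, a power of `M` is a non-scalar matrix of trace zero -/
theorem exists_comm_of_not_odd (M : SL2) (h : ¬ Odd (orderOf (pr M))) :
    ∃ P : SL2, P * M = M * P ∧ P.1 0 0 + P.1 1 1 = 0 ∧ pr P ≠ 1 := by
  haveI := finite_psl2 (F := F)
  have hpos : 0 < orderOf (pr M) := orderOf_pos _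
  obtain ⟨k, hk⟩ : Even (orderOf (pr M)) := Nat.not_odd_iff_even.1 h
  have hk0 : k ≠ 0 := by omega
  refine ⟨M ^ k, ((Commute.refl M).pow_left k).eq, ?_, ?_⟩
  · apply trace_zero_of_sq
    · rw [map_mul, map_pow, ← pow_add, ← hk, pow_orderOf_eq_one]
    · rw [map_pow]
      exact pow_ne_one_of_lt_orderOf hk0 (by omega)
  · rw [map_pow]
    exact pow_ne_one_of_lt_orderOf hk0 (by omega)

/-- odd characteristic: a matrix of trace `±2` has an image of odd order -/
theorem odd_of_trace_sq_eq_four (h2 : (2 : F) ≠ 0) (M : SL2)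
    (ht : (M.1 0 0 + M.1 1 1) ^ 2 = 4) : Odd (orderOf (pr M)) := by
  by_contra hodd
  obtain ⟨P, hc, hPt, hP1⟩ := exists_comm_of_not_odd M hodd
  obtain ⟨i1, i2, i3⟩ := comm_identities M P hc hPt
  rw [ht, sub_self, zero_mul] at i1 i2 i3
  have hd : M.1 0 0 = M.1 1 1 := by
    have : (M.1 0 0 - M.1 1 1) ^ 2 = 0 := by linear_combination i1
    have := pow_eq_zero_iff (two_ne_zero) |>.1 this
    linear_combination this
  have h01 : M.1 0 1 = 0 := by
    have : (2 * M.1 0 1) ^ 2 = 0 := by linear_combination i2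
    have := pow_eq_zero_iff (two_ne_zero) |>.1 this
    exact (mul_eq_zero.1 this).resolve_left h2
  have h10 : M.1 1 0 = 0 := by
    have : (2 * M.1 1 0) ^ 2 = 0 := by linear_combination i3
    have := pow_eq_zero_iff (two_ne_zero) |>.1 this
    exact (mul_eq_zero.1 this).resolve_left h2
  apply hodd
  rw [pr_eq_one_of_scalar M h01 h10 hd, orderOf_one]
  exact odd_one

/-- characteristic two: a matrix of nonzero trace has odd order -/
theorem odd_of_trace_ne_zero (h2 : (2 : F) = 0) (M : SL2)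
    (ht : M.1 0 0 + M.1 1 1 ≠ 0) : Odd (orderOf (pr M)) := by
  by_contra hodd
  obtain ⟨P, hc, hPt, hP1⟩ := exists_comm_of_not_odd M hodd
  obtain ⟨i1, i2, i3⟩ := comm_identities M P hc hPt
  have h4 : (4 : F) = 0 := by linear_combination 2 * h2
  have hs : (M.1 0 0 + M.1 1 1) ^ 2 - 4 ≠ 0 := by
    rw [h4, sub_zero]
    exact pow_ne_zero 2 ht
  have h01 : P.1 0 1 = 0 := by
    have : ((M.1 0 0 + M.1 1 1) ^ 2 - 4) * (P.1 0 1) ^ 2 = 0 := by
      rw [i2]; linear_combination (-2 * (M.1 0 1) ^ 2) * h2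
    have := (mul_eq_zero.1 this).resolve_left hs
    exact pow_eq_zero_iff (two_ne_zero) |>.1 this
  have h10 : P.1 1 0 = 0 := by
    have : ((M.1 0 0 + M.1 1 1) ^ 2 - 4) * (P.1 1 0) ^ 2 = 0 := by
      rw [i3]; linear_combination (-2 * (M.1 1 0) ^ 2) * h2
    have := (mul_eq_zero.1 this).resolve_left hs
    exact pow_eq_zero_iff (two_ne_zero) |>.1 this
  apply hP1
  apply pr_eq_one_of_scalar P h01 h10
  linear_combination hPt - P.1 1 1 * h2

/-- `-1` not a square: a matrix whose trace `s` has `s² - 4` a square has an image of odd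
order -/
theorem odd_of_trace_split (h2 : (2 : F) ≠ 0) (hneg : ¬ IsSquare (-1 : F)) (M : SL2) (d : F)
    (ht : (M.1 0 0 + M.1 1 1) ^ 2 - 4 = d ^ 2) : Odd (orderOf (pr M)) := by
  by_cases hd : d = 0
  · apply odd_of_trace_sq_eq_four h2
    rw [hd] at ht
    linear_combination ht
  by_contra hodd
  obtain ⟨P, hc, hPt, hP1⟩ := exists_comm_of_not_odd M hodd
  obtain ⟨i1, i2, i3⟩ := comm_identities M P hc hPt
  rw [ht] at i1 i2 i3
  have key : ∀ x y : F, d ^ 2 * x ^ 2 = -y ^ 2 → x = 0 := by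
    intro x y hxy
    by_contra hx
    apply hneg
    refine ⟨y / (d * x), ?_⟩
    have hdx : d * x ≠ 0 := mul_ne_zero hd hx
    field_simp
    linear_combination -hxy
  have h00 := key _ _ i1
  have h01 := key _ _ i2
  have h10 := key _ _ i3
  have hdet := det_entries P
  rw [h00, h01] at hdet
  simp at hdet

end finite

end Cfsg.Agent.Lib.Helper5.OddGraph
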