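import Cfsg.Agent.Lib.Helper5.OddGraph.Basic

/-!
# The odd-product graph on the involutions of `PSL(2, q)`: a common neighbour with given traces

(author: helper5)  Odd characteristic.  For matrices `A`, `B` of trace zero in `SL(2, F)` with
`τ = tr(AB)`, `τ² ≠ 4`, and `s`, `t`, `δ` with `δ² = 4 - s² - t² - τ² - sτt`, there is a matrix
`C` of trace zero with `tr(AC) = s` and `tr(CB) = t`.
-/

set_option autoImplicit false
set_option linter.unusedSectionVars false
set_option linter.unusedVariables false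

namespace Cfsg.Agent.Lib.Helper5.OddGraph

open Cfsg.Agent.H9.AutPSL2 (pr pr_eq_iff pr_surjective mem_center_iff')

section construct

variable {F : Type*} [Field F]

local notation "SL2" => Matrix.SpecialLinearGroup (Fin 2) F
local notation "PSL2" => Matrix.ProjectiveSpecialLinearGroup (Fin 2) F

theorem construct_identities (a b c d e f s t δ α β γ τ : F)
    (hA : a ^ 2 + b * c = -1) (hB : d ^ 2 + e * f = -1)
    (hτ : τ = 2 * a * d + b * f + c * e)
    (hΔ : τ ^ 2 - 4 ≠ 0)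
    (hα : α * (τ ^ 2 - 4) = 2 * s + τ * t)
    (hβ : β * (τ ^ 2 - 4) = 2 * t + τ * s)
    (hγ : γ * (τ ^ 2 - 4) = δ)
    (hδ : δ ^ 2 = 4 - s ^ 2 - t ^ 2 - τ ^ 2 - s * τ * t) :
    (α * a + β * d + γ * (b * f - c * e)) * (-(α * a + β * d + γ * (b * f - c * e))) -
        (α * b + β * e + 2 * γ * (a * e - b * d)) * (α * c + β * f + 2 * γ * (c * d - a * f)) = 1 ∧
      2 * a * (α * a + β * d + γ * (b * f - c * e)) + b * (α * c + β * f + 2 * γ * (c * d - a * f)) +
        c * (α * b + β * e + 2 * γ * (a * e - b * d)) = s ∧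
      2 * d * (α * a + β * d + γ * (b * f - c * e)) + f * (α * b + β * e + 2 * γ * (a * e - b * d)) +
        e * (α * c + β * f + 2 * γ * (c * d - a * f)) = t := by
  have e2 : -(b * f - c * e) ^ 2 - 4 * (a * e - b * d) * (c * d - a * f) = 4 - τ ^ 2 := by
    rw [hτ]
    linear_combination 4 * (d ^ 2 + e * f) * hA - 4 * hB
  refine ⟨?_, ?_, ?_⟩
  · have e1 : (α * a + β * d + γ * (b * f - c * e)) * (-(α * a + β * d + γ * (b * f - c * e))) -
        (α * b + β * e + 2 * γ * (a * e - b * d)) * (α * c + β * f + 2 * γ * (c * d - a * f)) =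
        α ^ 2 * (-(a ^ 2 + b * c)) + β ^ 2 * (-(d ^ 2 + e * f)) -
          α * β * (2 * a * d + b * f + c * e) +
          γ ^ 2 * (-(b * f - c * e) ^ 2 - 4 * (a * e - b * d) * (c * d - a * f)) := by ring
    rw [e1, e2, hA, hB, ← hτ]
    apply mul_left_cancel₀ (pow_ne_zero 2 hΔ)
    have e3 : (τ ^ 2 - 4) ^ 2 * (α ^ 2 * (-(-1)) + β ^ 2 * (-(-1)) - α * β * τ + γ ^ 2 * (4 - τ ^ 2)) =
        (α * (τ ^ 2 - 4)) ^ 2 + (β * (τ ^ 2 - 4)) ^ 2 - (α * (τ ^ 2 - 4)) * (β * (τ ^ 2 - 4)) * τ -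
          (γ * (τ ^ 2 - 4)) ^ 2 * (τ ^ 2 - 4) := by ring
    rw [e3, hα, hβ, hγ, hδ]
    ring
  · have e1 : 2 * a * (α * a + β * d + γ * (b * f - c * e)) +
        b * (α * c + β * f + 2 * γ * (c * d - a * f)) +
        c * (α * b + β * e + 2 * γ * (a * e - b * d)) =
        2 * α * (a ^ 2 + b * c) + β * (2 * a * d + b * f + c * e) := by ring
    rw [e1, hA, ← hτ]
    apply mul_left_cancel₀ hΔ
    have e3 : (τ ^ 2 - 4) * (2 * α * -1 + β * τ) =
        -2 * (α * (τ ^ 2 - 4)) + (β * (τ ^ 2 - 4)) * τ := by ring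
    rw [e3, hα, hβ]
    ring
  · have e1 : 2 * d * (α * a + β * d + γ * (b * f - c * e)) +
        f * (α * b + β * e + 2 * γ * (a * e - b * d)) +
        e * (α * c + β * f + 2 * γ * (c * d - a * f)) =
        α * (2 * a * d + b * f + c * e) + 2 * β * (d ^ 2 + e * f) := by ring
    rw [e1, hB, ← hτ]
    apply mul_left_cancel₀ hΔ
    have e3 : (τ ^ 2 - 4) * (α * τ + 2 * β * -1) =
        (α * (τ ^ 2 - 4)) * τ - 2 * (β * (τ ^ 2 - 4)) := by ring
    rw [e3, hα, hβ]
    ring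

/-- the common neighbour with given traces -/
theorem exists_common (A B : SL2) (hA : A.1 0 0 + A.1 1 1 = 0) (hB : B.1 0 0 + B.1 1 1 = 0)
    (s t δ : F) (hτ : ((A * B).1 0 0 + (A * B).1 1 1) ^ 2 ≠ 4)
    (hδ : δ ^ 2 = 4 - s ^ 2 - t ^ 2 - ((A * B).1 0 0 + (A * B).1 1 1) ^ 2 -
      s * ((A * B).1 0 0 + (A * B).1 1 1) * t) :
    ∃ C : SL2, C.1 0 0 + C.1 1 1 = 0 ∧ (A * C).1 0 0 + (A * C).1 1 1 = s ∧
      (C * B).1 0 0 + (C * B).1 1 1 = t := by
  obtain ⟨ab00, ab01, ab10, ab11⟩ := mul_entries A B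
  have hA11 : A.1 1 1 = -A.1 0 0 := by linear_combination hA
  have hB11 : B.1 1 1 = -B.1 0 0 := by linear_combination hB
  have hdA := det_entries A
  have hdB := det_entries B
  rw [hA11] at hdA
  rw [hB11] at hdB
  set a := A.1 0 0 with ha
  set b := A.1 0 1 with hb
  set c := A.1 1 0 with hc
  set d := B.1 0 0 with hd
  set e := B.1 0 1 with he
  set f := B.1 1 0 with hf
  have hτe : (A * B).1 0 0 + (A * B).1 1 1 = 2 * a * d + b * f + c * e := by
    rw [ab00, ab11, hA11, hB11]; ring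
  rw [hτe] at hτ hδ
  set τ := 2 * a * d + b * f + c * e with hτdef
  have hΔ : τ ^ 2 - 4 ≠ 0 := sub_ne_zero.2 hτ
  have hA' : a ^ 2 + b * c = -1 := by linear_combination -hdA
  have hB' : d ^ 2 + e * f = -1 := by linear_combination -hdB
  obtain ⟨h1, h2, h3⟩ := construct_identities a b c d e f s t δ
    ((2 * s + τ * t) / (τ ^ 2 - 4)) ((2 * t + τ * s) / (τ ^ 2 - 4)) (δ / (τ ^ 2 - 4)) τ
    hA' hB' hτdef hΔ (div_mul_cancel₀ _ hΔ) (div_mul_cancel₀ _ hΔ) (div_mul_cancel₀ _ hΔ) hδ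
  set α := (2 * s + τ * t) / (τ ^ 2 - 4)
  set β := (2 * t + τ * s) / (τ ^ 2 - 4)
  set γ := δ / (τ ^ 2 - 4)
  refine ⟨mk2 (α * a + β * d + γ * (b * f - c * e)) (α * b + β * e + 2 * γ * (a * e - b * d))
    (α * c + β * f + 2 * γ * (c * d - a * f)) (-(α * a + β * d + γ * (b * f - c * e))) h1,
    ?_, ?_, ?_⟩
  · simp
  · obtain ⟨x00, x01, x10, x11⟩ := mul_entries A
      (mk2 (α * a + β * d + γ * (b * f - c * e)) (α * b + β * e + 2 * γ * (a * e - b * d))
        (α * c + β * f + 2 * γ * (c * d - a * f)) (-(α * a + β * d + γ * (b * f - c * e))) h1)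
    rw [x00, x11, hA11]
    simp only [mk2_00, mk2_01, mk2_10, mk2_11]
    linear_combination h2
  · obtain ⟨x00, x01, x10, x11⟩ := mul_entries
      (mk2 (α * a + β * d + γ * (b * f - c * e)) (α * b + β * e + 2 * γ * (a * e - b * d))
        (α * c + β * f + 2 * γ * (c * d - a * f)) (-(α * a + β * d + γ * (b * f - c * e))) h1) B
    rw [x00, x11, hB11]
    simp only [mk2_00, mk2_01, mk2_10, mk2_11]
    linear_combination h3

end construct

end Cfsg.Agent.Lib.Helper5.OddGraph
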