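import Cfsg.Agent.Lib.Helper5.OddGraph.Construct
import Cfsg.Agent.H9.KleinPSL2
import Cfsg.Agent.Lib.S3265.Graph

/-!
# The odd-product graph on the involutions of `PSL(2, q)`, `q` odd: common neighbours

(author: helper5)
-/

set_option autoImplicit false
set_option linter.unusedSectionVars false
set_option linter.unusedVariables false

namespace Cfsg.Agent.Lib.Helper5.OddGraph

open Cfsg.Agent.H9.AutPSL2 (pr pr_eq_iff pr_surjective mem_center_iff')

section glue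

variable {G : Type*} [Group G] [Finite G]

/-- the graph glue: common neighbours for non-adjacent pairs and one non-adjacent pair give a
connected graph of diameter two -/
theorem glue (t : G) (ht : t * t = 1)
    (hL : ∀ x y, IsConj t x → IsConj t y → x ≠ y → ¬ Odd (orderOf (x * y)) →
      ∃ w, IsConj t w ∧ Odd (orderOf (x * w)) ∧ Odd (orderOf (w * y)))
    (hN : ∃ x y, IsConj t x ∧ IsConj t y ∧ x ≠ y ∧ ¬ Odd (orderOf (x * y))) :
    (SimpleGraph.fromRel fun x y : {x : G // IsConj t x} => Odd (orderOf (x.1 * y.1))).Connected ∧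
      (SimpleGraph.fromRel fun x y : {x : G // IsConj t x} =>
        Odd (orderOf (x.1 * y.1))).diam = 2 := by
  have hinv : ∀ x : G, IsConj t x → x * x = 1 := by
    intro x hx
    obtain ⟨c, hc⟩ := isConj_iff.1 hx
    have e : c * t * c⁻¹ * (c * t * c⁻¹) = c * (t * t) * c⁻¹ := by group
    rw [← hc, e, ht]; group
  apply Cfsg.Agent.S3265L.G_glue
  · intro a b h
    rwa [orderOf_mul_comm]
  · intro u v
    by_cases huv : Odd (orderOf (u.1 * v.1))
    · refine ⟨u, ?_, huv⟩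
      rw [hinv u.1 u.2, orderOf_one]
      exact odd_one
    · have hne : u.1 ≠ v.1 := by
        intro h
        apply huv
        rw [← h, hinv u.1 u.2, orderOf_one]
        exact odd_one
      obtain ⟨w, hw, h1, h2⟩ := hL u.1 v.1 u.2 v.2 hne huv
      exact ⟨⟨w, hw⟩, h1, h2⟩
  · obtain ⟨x, y, hx, hy, hne, hno⟩ := hN
    refine ⟨⟨x, hx⟩, ⟨y, hy⟩, ?_, hno⟩
    intro h
    exact hne (congrArg Subtype.val h)

end glue

section odd

variable {F : Type*} [Field F] [Fintype F]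

local notation "SL2" => Matrix.SpecialLinearGroup (Fin 2) F
local notation "PSL2" => Matrix.ProjectiveSpecialLinearGroup (Fin 2) F

/-- the existence statement needed when `-1` is not a square -/
def SplitPair (F : Type*) [Field F] : Prop :=
  ∀ τ : F, ¬ IsSquare (τ ^ 2 - 4) → ∃ a b δ : F, a ≠ 0 ∧ b ≠ 0 ∧
    δ ^ 2 = 4 - (a + a⁻¹) ^ 2 - (b + b⁻¹) ^ 2 - τ ^ 2 - (a + a⁻¹) * τ * (b + b⁻¹)

/-- odd characteristic: two involutions have a common neighbour -/
theorem core_odd (h2 : (2 : F) ≠ 0) (hex : ¬ IsSquare (-1 : F) → SplitPair F)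
    (x y : PSL2) (hx : x * x = 1) (hx1 : x ≠ 1)
    (hy : y * y = 1) (hy1 : y ≠ 1) :
    ∃ w : PSL2, w * w = 1 ∧ Odd (orderOf (x * w)) ∧ Odd (orderOf (w * y)) := by
  by_cases hxy : Odd (orderOf (x * y))
  · exact ⟨x, hx, by rw [hx, orderOf_one]; exact odd_one, hxy⟩
  obtain ⟨A, hA⟩ := pr_surjective x
  obtain ⟨B, hB⟩ := pr_surjective y
  have hAt : A.1 0 0 + A.1 1 1 = 0 :=
    trace_zero_of_sq A (by rw [map_mul, hA, hx]) (by rw [hA]; exact hx1)
  have hBt : B.1 0 0 + B.1 1 1 = 0 :=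
    trace_zero_of_sq B (by rw [map_mul, hB, hy]) (by rw [hB]; exact hy1)
  have hxyAB : x * y = pr (A * B) := by rw [map_mul, hA, hB]
  rw [hxyAB] at hxy
  have hτ4 : ((A * B).1 0 0 + (A * B).1 1 1) ^ 2 ≠ 4 :=
    fun h => hxy (odd_of_trace_sq_eq_four h2 (A * B) h)
  by_cases hneg : IsSquare (-1 : F)
  · obtain ⟨i, hi⟩ := hneg
    obtain ⟨C, hCt, hAC, hCB⟩ := exists_common A B hAt hBt 2 2
      (i * ((A * B).1 0 0 + (A * B).1 1 1 + 2)) hτ4
      (by linear_combination (-((A * B).1 0 0 + (A * B).1 1 1 + 2) ^ 2) * hi)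
    refine ⟨pr C, pr_sq_of_trace_zero C hCt, ?_, ?_⟩
    · rw [← hA, ← map_mul]
      apply odd_of_trace_sq_eq_four h2
      rw [hAC]; norm_num
    · rw [← hB, ← map_mul]
      apply odd_of_trace_sq_eq_four h2
      rw [hCB]; norm_num
  · have hτns : ¬ IsSquare (((A * B).1 0 0 + (A * B).1 1 1) ^ 2 - 4) := by
      rintro ⟨d, hd⟩
      exact hxy (odd_of_trace_split h2 hneg (A * B) d (by rw [hd]; ring))
    obtain ⟨a, b, δ, ha, hb, hδ⟩ := hex hneg _ hτns
    obtain ⟨C, hCt, hAC, hCB⟩ := exists_common A B hAt hBt (a + a⁻¹) (b + b⁻¹) δ hτ4 hδ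
    refine ⟨pr C, pr_sq_of_trace_zero C hCt, ?_, ?_⟩
    · rw [← hA, ← map_mul]
      apply odd_of_trace_split h2 hneg _ (a - a⁻¹)
      rw [hAC]
      field_simp
      ring
    · rw [← hB, ← map_mul]
      apply odd_of_trace_split h2 hneg _ (b - b⁻¹)
      rw [hCB]
      field_simp
      ring

/-- odd characteristic: two commuting distinct involutions -/
theorem exists_klein_pair (h2 : (2 : F) ≠ 0) :
    ∃ u v : PSL2, u * u = 1 ∧ v * v = 1 ∧ u ≠ 1 ∧ v ≠ 1 ∧ u ≠ v ∧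
      ¬ Odd (orderOf (u * v)) := by
  obtain ⟨s, t, hst⟩ := Cfsg.Agent.H9.AutPSL2.exists_sq_add_sq (-1 : F)
  obtain ⟨p1, p2, p3, p4, p5, p6⟩ := Cfsg.Agent.H9.KleinPSL2.pr_props h2 _ _
    (Cfsg.Agent.H9.KleinPSL2.anti0 s t hst.symm)
  refine ⟨_, _, p1, p2, p4, p5, p6, ?_⟩
  have hsq : (pr (Cfsg.Agent.H9.KleinPSL2.X0 (F := F)) *
      pr (Cfsg.Agent.H9.KleinPSL2.Y0 s t hst.symm)) ^ 2 = 1 := by
    rw [pow_two, mul_assoc, ← mul_assoc (pr (Cfsg.Agent.H9.KleinPSL2.Y0 s t hst.symm)), ← p3,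
      mul_assoc, p2, mul_one, p1]
  have hne : pr (Cfsg.Agent.H9.KleinPSL2.X0 (F := F)) *
      pr (Cfsg.Agent.H9.KleinPSL2.Y0 s t hst.symm) ≠ 1 := by
    intro h
    apply p6
    have := eq_inv_of_mul_eq_one_left h
    rw [this]
    exact (inv_eq_of_mul_eq_one_left p2)
  haveI : Fact (Nat.Prime 2) := ⟨Nat.prime_two⟩
  rw [orderOf_eq_prime hsq hne]
  decide

/-- odd characteristic: the two properties of the class of an involution -/
theorem odd_case (h2 : (2 : F) ≠ 0) (hex : ¬ IsSquare (-1 : F) → SplitPair F)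
    (t : PSL2) (ht : orderOf t = 2) :
    (∀ x y, IsConj t x → IsConj t y → x ≠ y → ¬ Odd (orderOf (x * y)) →
      ∃ w, IsConj t w ∧ Odd (orderOf (x * w)) ∧ Odd (orderOf (w * y))) ∧
    (∃ x y, IsConj t x ∧ IsConj t y ∧ x ≠ y ∧ ¬ Odd (orderOf (x * y))) := by
  have ht2 : t * t = 1 := by
    have := pow_orderOf_eq_one t
    rwa [ht, pow_two] at this
  have ht1 : t ≠ 1 := by
    rintro rfl
    rw [orderOf_one] at ht
    omega
  have hinv : ∀ x : PSL2, IsConj t x → x * x = 1 ∧ x ≠ 1 := by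
    intro x hx
    obtain ⟨c, hc⟩ := isConj_iff.1 hx
    constructor
    · have e : c * t * c⁻¹ * (c * t * c⁻¹) = c * (t * t) * c⁻¹ := by group
      rw [← hc, e, ht2]; group
    · intro h
      apply ht1
      rw [h] at hc
      have : t = c⁻¹ * (c * t * c⁻¹) * c := by group
      rw [this, hc]; group
  have hconj : ∀ u : PSL2, u * u = 1 → u ≠ 1 → IsConj t u := by
    intro u hu hu1
    obtain ⟨w, hw, h1, h2'⟩ := core_odd h2 hex t u ht2 ht1 hu hu1
    exact (isConj_of_odd t w ht2 hw h1).trans (isConj_of_odd w u hw hu h2')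
  constructor
  · intro x y hx hy hne hno
    obtain ⟨hx2, hx1⟩ := hinv x hx
    obtain ⟨hy2, hy1⟩ := hinv y hy
    obtain ⟨w, hw, h1, h2'⟩ := core_odd h2 hex x y hx2 hx1 hy2 hy1
    exact ⟨w, hx.trans (isConj_of_odd x w hx2 hw h1), h1, h2'⟩
  · obtain ⟨u, v, hu, hv, hu1, hv1, huv, hno⟩ := exists_klein_pair (F := F) h2
    exact ⟨u, v, hconj u hu hu1, hconj v hv hv1, huv, hno⟩

end odd

end Cfsg.Agent.Lib.Helper5.OddGraph
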